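import Groth.Agent.H4Frob.RegularFlat
import Mathlib.RingTheory.Flat.EquationalCriterion

/-!
# Flat endomorphisms preserve exactness of matrices
-/

set_option autoImplicit false
set_option linter.style.haveILetI false
universe u

open Matrix

namespace Groth.Agent.H4Frob

theorem exists_preimage_map_of_flat {R : Type u} [CommRing R] (ψ : R →+* R) (hψ : ψ.Flat) {a b c : ℕ}
    (D : Matrix (Fin a) (Fin b) R) (E : Matrix (Fin b) (Fin c) R)
    (h : ∀ u, D *ᵥ u = 0 → ∃ z, E *ᵥ z = u) (v : Fin b → R) (hv : D.map ψ *ᵥ v = 0) :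
    ∃ y, E.map ψ *ᵥ y = v := by
  letI : Algebra R (Tgt R) := ((toTgt R).toRingHom.comp ψ).toAlgebra
  haveI : Module.Flat R (Tgt R) := hψ
  let w : Fin b → Tgt R := fun j => toTgt R (v j)
  have hsm : ∀ (r : R) (j : Fin b), r • w j = toTgt R (ψ r * v j) := fun r j => by
    rw [Algebra.smul_def, map_mul]
    rfl
  have h0 : Fintype.linearCombination R w ∘ₗ Dᵀ.mulVecLin = 0 := by
    refine LinearMap.pi_ext' fun i => LinearMap.ext_ring ?_
    simp only [LinearMap.comp_apply, LinearMap.coe_single, LinearMap.zero_apply,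
      Matrix.mulVecLin_apply, Matrix.mulVec_single_one]
    show Fintype.linearCombination R w (Dᵀ.col i) = 0
    rw [Fintype.linearCombination_apply]
    simp only [hsm, ← map_sum]
    refine (congrArg (toTgt R) (congrFun hv i)).trans (map_zero _)
  obtain ⟨k, al, y, hxy, haf⟩ := Module.Flat.exists_factorization_of_comp_eq_zero_of_free h0
  have hker : ∀ l : Fin k, D *ᵥ (fun j => al (Pi.single j 1) l) = 0 := fun l => funext fun i => by
    have := congrArg (fun g : Fin k →₀ R => g l) (LinearMap.congr_fun haf (Pi.single i 1))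
    simp only [LinearMap.comp_apply, Matrix.mulVecLin_apply, Matrix.mulVec_single_one,
      LinearMap.zero_apply, Finsupp.coe_zero, Pi.zero_apply] at this
    rw [pi_eq_sum_univ' (Dᵀ.col i), map_sum, Finsupp.finsetSum_apply] at this
    refine Eq.trans ?_ this
    show ∑ j : Fin b, D i j * al (Pi.single j 1) l = _
    refine Finset.sum_congr rfl fun j _ => ?_
    rw [map_smul, Finsupp.smul_apply]
    rfl
  choose z hz using fun l => h _ (hker l)
  refine ⟨fun t => ∑ l, ψ (z l t) * (toTgt R).symm (y (Finsupp.single l 1)), funext fun j => ?_⟩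
  have hvj : w j = y (al (Pi.single j 1)) := by
    rw [← LinearMap.comp_apply, ← hxy]
    simp
  apply (toTgt R).injective
  refine Eq.trans ?_ hvj.symm
  rw [← Finsupp.univ_sum_single (al (Pi.single j 1)), map_sum]
  simp only [Matrix.mulVec, dotProduct, Matrix.map_apply, Finset.mul_sum]
  rw [Finset.sum_comm, map_sum]
  refine Finset.sum_congr rfl fun l _ => ?_
  rw [show Finsupp.single l (al (Pi.single j 1) l) = al (Pi.single j 1) l • Finsupp.single l (1 : R) by simp,
    map_smul, Algebra.smul_def, show al (Pi.single j 1) l = (E *ᵥ z l) j from (congrFun (hz l) j).symm,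
    Matrix.mulVec, dotProduct, map_sum, map_sum, Finset.sum_mul]
  refine Finset.sum_congr rfl fun t _ => ?_
  rw [map_mul, map_mul, map_mul, RingEquiv.apply_symm_apply]
  exact (mul_assoc _ _ _).symm

end Groth.Agent.H4Frob
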