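import Groth.Agent.H05EGA4.RegularPD

/-!
# A module isomorphic to its pullback along a contracting endomorphism is free
-/

set_option autoImplicit false
set_option linter.style.haveILetI false
universe u

open CategoryTheory IsLocalRing

namespace Groth.Agent.H4Frob

variable {R : Type u} [CommRing R] [IsLocalRing R] [IsNoetherianRing R]

theorem exists_factor {L M : Type u} [AddCommGroup L] [Module R L] [AddCommGroup M] [Module R M] (π : L →ₗ[R] M)
    (hπ : Function.Surjective π) (N : ModuleCat.{u} R) (f₀ : L →ₗ[R] N) (h : LinearMap.ker π ≤ LinearMap.ker f₀) :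
    ∃ f : ModuleCat.of R M ⟶ N, ∀ v, f.hom (π v) = f₀ v :=
  ⟨ModuleCat.ofHom ((LinearMap.ker π).liftQ f₀ h ∘ₗ (π.quotKerEquivOfSurjective hπ).symm.toLinearMap), fun v => by
    show (LinearMap.ker π).liftQ f₀ h ((π.quotKerEquivOfSurjective hπ).symm (π v)) = f₀ v
    rw [show π v = π.quotKerEquivOfSurjective hπ (Submodule.Quotient.mk v) from rfl,
      LinearEquiv.symm_apply_apply, Submodule.liftQ_apply]⟩

theorem free_of_extendScalars_iso (φ : R →+* R) (hφ : ∀ r ∈ maximalIdeal R, φ r ∈ maximalIdeal R * Ideal.span {r})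
    (M : Type u) [AddCommGroup M] [Module R M] [Module.Finite R M]
    (h : Nonempty ((ModuleCat.extendScalars φ).obj (ModuleCat.of R M) ≅ ModuleCat.of R M)) : Module.Free R M := by
  obtain ⟨e⟩ := h
  obtain ⟨n, π, hπ, hker⟩ := H05EGA4.exists_minimal_surjection (A := R) M
  let I : Ideal R := Ideal.span {r | ∃ c ∈ LinearMap.ker π, ∃ i, c i = r}
  have hIm : I ≤ maximalIdeal R := Ideal.span_le.2 (by rintro _ ⟨c, hc, i, rfl⟩; exact hker c hc i)
  let J : Ideal R := Ideal.span (φ '' (I : Set R))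
  have hJ : J ≤ maximalIdeal R * I := Ideal.span_le.2 (by
    rintro _ ⟨r, hr, rfl⟩
    exact Ideal.mul_mono_right ((Ideal.span_singleton_le_iff_mem _).2 hr) (hφ r (hIm hr)))
  let Q : ModuleCat.{u} R := ModuleCat.of R (Fin n → R ⧸ J)
  let f₀ : (Fin n → R) →ₗ[R] ((ModuleCat.restrictScalars φ).obj Q) :=
    { toFun := fun v => ((fun i => Ideal.Quotient.mk J (φ (v i))) : Fin n → R ⧸ J)
      map_add' := fun v w => funext fun i => by
        show Ideal.Quotient.mk J (φ (v i + w i)) = Ideal.Quotient.mk J (φ (v i)) + Ideal.Quotient.mk J (φ (w i))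
        rw [map_add, map_add]
      map_smul' := fun r v => funext fun i => by
        show Ideal.Quotient.mk J (φ (r * v i)) = φ r • Ideal.Quotient.mk J (φ (v i))
        rw [map_mul, map_mul, Algebra.smul_def, Ideal.Quotient.algebraMap_eq] }
  have hle : LinearMap.ker π ≤ LinearMap.ker f₀ := fun c hc => LinearMap.mem_ker.2 (funext fun i =>
    Ideal.Quotient.eq_zero_iff_mem.2 (Ideal.subset_span ⟨c i, Ideal.subset_span ⟨c, hc, i, rfl⟩, rfl⟩))
  obtain ⟨f, hf⟩ := exists_factor π hπ ((ModuleCat.restrictScalars φ).obj Q) f₀ hle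
  let adj := ModuleCat.extendRestrictScalarsAdj φ
  let hh : (ModuleCat.extendScalars φ).obj (ModuleCat.of R M) ⟶ Q :=
    (adj.homEquiv (ModuleCat.of R M) Q).symm f
  have hunit : ∀ m : M, hh.hom ((adj.unit.app (ModuleCat.of R M)).hom m) = f.hom m := fun m => by
    have := (adj.homEquiv (ModuleCat.of R M) Q).apply_symm_apply f
    rw [Adjunction.homEquiv_unit] at this
    exact congr($(this).hom m)
  let c : (Fin n → R) →ₗ[R] (Fin n → R ⧸ J) := (e.inv ≫ hh).hom ∘ₗ π
  let c' : (Fin n → R ⧸ J) →ₗ[R ⧸ J] (Fin n → R ⧸ J) :=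
    Fintype.linearCombination (R ⧸ J) (fun i => c (Pi.single i 1))
  have hcc : ∀ v : Fin n → R, c v = c' (fun i => Ideal.Quotient.mk J (v i)) := fun v => by
    conv_lhs => rw [pi_eq_sum_univ' v]
    rw [map_sum, Fintype.linearCombination_apply]
    refine Finset.sum_congr rfl fun i _ => ?_
    rw [map_smul]
    exact (IsScalarTower.algebraMap_smul (R ⧸ J) (v i) _).symm
  have hc' : Function.Surjective c' := by
    rw [← LinearMap.range_eq_top, eq_top_iff]
    intro w _
    rw [pi_eq_sum_univ' w]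
    refine Submodule.sum_mem _ fun i _ => Submodule.smul_mem _ _ ?_
    obtain ⟨v, hv⟩ := hπ (e.hom.hom ((adj.unit.app (ModuleCat.of R M)).hom (π (Pi.single i 1))))
    refine ⟨fun i => Ideal.Quotient.mk J (v i), (hcc v).symm.trans ?_⟩
    show (e.inv ≫ hh).hom (π v) = _
    rw [hv]
    show hh.hom (e.inv.hom (e.hom.hom _)) = _
    rw [show ∀ z, e.inv.hom (e.hom.hom z) = z from fun z => e.hom_inv_id_apply z, hunit, hf]
    funext j
    show Ideal.Quotient.mk J (φ (Pi.single (M := fun _ : Fin n => R) i 1 j)) =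
      Pi.single (M := fun _ : Fin n => R ⧸ J) i 1 j
    rcases eq_or_ne j i with rfl | hji
    · simp
    · simp [hji]
  have hinj := OrzechProperty.injective_of_surjective_endomorphism c' hc'
  have hIJ : I ≤ J := Ideal.span_le.2 (by
    rintro _ ⟨v, hv, i, rfl⟩
    have h0 : c v = 0 := by
      show (e.inv ≫ hh).hom (π v) = 0
      rw [LinearMap.mem_ker.1 hv, map_zero]
    rw [hcc] at h0
    exact Ideal.Quotient.eq_zero_iff_mem.1 (congrFun (hinj (h0.trans (map_zero c').symm)) i))
  have hI : I = ⊥ := Submodule.eq_bot_of_le_smul_of_le_jacobson_bot (maximalIdeal R) I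
    (IsNoetherian.noetherian I) (hIJ.trans hJ) (IsLocalRing.maximalIdeal_le_jacobson ⊥)
  exact Module.Free.of_equiv (LinearEquiv.ofBijective π ⟨LinearMap.ker_eq_bot.1 (eq_bot_iff.2 fun v hv =>
    (Submodule.mem_bot R).2 (funext fun i => (Submodule.mem_bot R).1
      (hI ▸ (Ideal.subset_span ⟨v, hv, i, rfl⟩ : v i ∈ I)))), hπ⟩)

end Groth.Agent.H4Frob
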