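import Groth.Agent.H4Frob.Resolution
import Groth.Agent.H4Frob.FlatMatrix
import Groth.Agent.H05EGA4.RegularPD

/-!
# A Noetherian local ring with a flat contracting endomorphism is regular
-/

set_option autoImplicit false
set_option linter.style.haveILetI false
universe u

open CategoryTheory IsLocalRing Matrix RingTheory.Sequence

namespace Groth.Agent.H4Frob

variable {R : Type u} [CommRing R] [IsLocalRing R] [IsNoetherianRing R]

theorem exists_regular_socle :
    ∃ (Y : List R) (z : R), IsWeaklyRegular R Y ∧ z ∉ Ideal.ofList Y ∧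
      ∀ r ∈ maximalIdeal R, r * z ∈ Ideal.ofList Y := by
  let S : Set (Ideal R) :=
    {I | ∃ Y : List R, IsWeaklyRegular R Y ∧ (∀ r ∈ Y, r ∈ maximalIdeal R) ∧ Ideal.ofList Y = I}
  obtain ⟨I, ⟨Y, hY, hYm, rfl⟩, hmax⟩ := set_has_maximal_iff_noetherian.2 ‹IsNoetherianRing R› S
    ⟨_, [], .nil R R, by simp, rfl⟩
  refine ⟨Y, ?_⟩
  by_contra hcon
  push Not at hcon
  have hle : Ideal.ofList Y ≤ maximalIdeal R := Ideal.span_le.2 hYm
  haveI : Nontrivial (R ⧸ Ideal.ofList Y) :=
    Ideal.Quotient.nontrivial_iff.2 fun h => (maximalIdeal.isMaximal R).ne_top (top_le_iff.1 (h ▸ hle))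
  have hnot : ¬ ((maximalIdeal R : Set R) ⊆ ⋃ q ∈ associatedPrimes R (R ⧸ Ideal.ofList Y), (q : Set R)) := by
    intro hsub
    obtain ⟨q, hq, hqle⟩ := (Ideal.subset_union_prime_finite
      (associatedPrimes.finite R (R ⧸ Ideal.ofList Y)) ⊥ ⊥ (fun q hq _ _ => hq.isPrime)).1 hsub
    have hqm : q = maximalIdeal R :=
      le_antisymm (IsLocalRing.le_maximalIdeal hq.isPrime.ne_top) hqle
    obtain ⟨-, x, hx⟩ := (isAssociatedPrime_iff (R := R)).1 hq
    obtain ⟨z, rfl⟩ := Ideal.Quotient.mk_surjective x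
    have hann : ∀ r ∈ maximalIdeal R, r * z ∈ Ideal.ofList Y := fun r hr => by
      rw [← hqm, hx, Submodule.mem_colon_singleton, Submodule.mem_bot] at hr
      exact Ideal.Quotient.eq_zero_iff_mem.1 hr
    obtain ⟨r, hr, hrz⟩ := hcon z hY fun hz => hq.isPrime.ne_top (by
      rw [hx, Ideal.Quotient.eq_zero_iff_mem.2 hz]
      ext r
      simp [Submodule.mem_colon_singleton])
    exact hrz (hann r hr)
  obtain ⟨x, hxm, hx⟩ := Set.not_subset.1 hnot
  rw [biUnion_associatedPrimes_eq_compl_regular] at hx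
  have hreg : IsSMulRegular (R ⧸ Ideal.ofList Y) x := by simpa using hx
  have hY' : IsWeaklyRegular R (Y ++ [x]) := by
    rw [isWeaklyRegular_append_iff, isWeaklyRegular_singleton_iff]
    exact ⟨hY, by rwa [smul_eq_mul, Ideal.mul_top]⟩
  have hlt : Ideal.ofList Y < Ideal.ofList (Y ++ [x]) := by
    rw [Ideal.ofList_append]
    refine lt_of_le_of_ne le_sup_left fun h => ?_
    have hxY : x ∈ Ideal.ofList Y := h ▸ Submodule.mem_sup_right (Ideal.subset_span (by simp))
    obtain ⟨w, hw⟩ := exists_ne (0 : R ⧸ Ideal.ofList Y)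
    refine hw (hreg ?_)
    show x • w = x • 0
    obtain ⟨w, rfl⟩ := Ideal.Quotient.mk_surjective w
    rw [smul_zero]
    exact Ideal.Quotient.eq_zero_iff_mem.2 (Ideal.mul_mem_right _ _ hxY)
  exact hmax _ ⟨_, hY', fun r hr => (List.mem_append.1 hr).elim (hYm r)
    (fun hr => (List.mem_singleton.1 hr) ▸ hxm), rfl⟩ hlt

/-- Exactness of a matrix complex modulo a weakly regular sequence, above its length. -/
theorem exists_preimage_mod (r : ℕ → ℕ) (D : ∀ i, Matrix (Fin (r i)) (Fin (r (i + 1))) R)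
    (hex : ∀ i v, D i *ᵥ v = 0 ↔ ∃ y, D (i + 1) *ᵥ y = v) (Y : List R) :
    IsWeaklyRegular R Y → ∀ i, Y.length ≤ i → ∀ v, (∀ a, (D i *ᵥ v) a ∈ Ideal.ofList Y) →
      ∃ w, ∀ b, (v - D (i + 1) *ᵥ w) b ∈ Ideal.ofList Y := by
  induction Y using List.reverseRecOn with
  | nil =>
    intro _ i _ v hv
    obtain ⟨w, hw⟩ := (hex i v).1 (funext fun a => by simpa [Ideal.ofList_nil] using hv a)
    exact ⟨w, fun b => by simp [hw]⟩
  | append_singleton Y x ih =>
    intro h i hi v hv
    rw [isWeaklyRegular_append_iff, isWeaklyRegular_singleton_iff, smul_eq_mul, Ideal.mul_top] at h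
    obtain ⟨hY, hx⟩ := h
    rw [List.length_append, List.length_singleton] at hi
    obtain ⟨i, rfl⟩ := Nat.exists_eq_add_of_le' (show 1 ≤ i by omega)
    have hdec : ∀ a, ∃ u : R, (D (i + 1) *ᵥ v) a - x * u ∈ Ideal.ofList Y := fun a => by
      have := hv a
      rw [Ideal.ofList_append, Ideal.ofList_singleton] at this
      obtain ⟨y, hy, c, hc, e⟩ := Submodule.mem_sup.1 this
      obtain ⟨u, rfl⟩ := Ideal.mem_span_singleton'.1 hc
      exact ⟨u, by rwa [← e, mul_comm x u, add_sub_cancel_right]⟩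
    choose u hu using hdec
    have hcancel : ∀ s : R, x * s ∈ Ideal.ofList Y → s ∈ Ideal.ofList Y := fun s hs =>
      Ideal.Quotient.eq_zero_iff_mem.1 (hx (by
        show x • Ideal.Quotient.mk (Ideal.ofList Y) s = x • 0
        rw [smul_zero]
        exact Ideal.Quotient.eq_zero_iff_mem.2 hs))
    have hmem : ∀ {m n : ℕ} (M : Matrix (Fin m) (Fin n) R) (t : Fin n → R),
        (∀ b, t b ∈ Ideal.ofList Y) → ∀ a, (M *ᵥ t) a ∈ Ideal.ofList Y := fun M t ht a =>
      show ∑ b, M a b * t b ∈ _ from Ideal.sum_mem _ fun b _ => Ideal.mul_mem_left _ _ (ht b)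
    have hdu : ∀ a, (D i *ᵥ u) a ∈ Ideal.ofList Y := fun a => hcancel _ (by
      have h0 : D i *ᵥ (D (i + 1) *ᵥ v) = 0 := (hex i _).2 ⟨v, rfl⟩
      have : (D i *ᵥ (D (i + 1) *ᵥ v - x • u)) a ∈ Ideal.ofList Y := hmem _ _ hu a
      rw [Matrix.mulVec_sub, h0, zero_sub, Matrix.mulVec_smul, Pi.neg_apply, Ideal.neg_mem_iff] at this
      exact this)
    obtain ⟨w, hw⟩ := ih hY i (by omega) u hdu
    obtain ⟨y, hy⟩ := ih hY (i + 1) (by omega) (v - x • w) (fun a => by
      have e : (D (i + 1) *ᵥ (v - x • w)) a = ((D (i + 1) *ᵥ v) a - x * u a) + x * (u - D (i + 1) *ᵥ w) a := by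
        rw [Matrix.mulVec_sub, Matrix.mulVec_smul]
        simp only [Pi.sub_apply, Pi.smul_apply, smul_eq_mul]
        ring
      rw [e]
      exact Ideal.add_mem _ (hu a) (Ideal.mul_mem_left _ _ (hw a)))
    refine ⟨y, fun b => ?_⟩
    rw [Ideal.ofList_append, Ideal.ofList_singleton]
    have e : (v - D (i + 1 + 1) *ᵥ y) b = (v - x • w - D (i + 1 + 1) *ᵥ y) b + x * w b := by
      simp only [Pi.sub_apply, Pi.smul_apply, smul_eq_mul]
      ring
    rw [e]
    exact Submodule.add_mem_sup (hy b) (Ideal.mem_span_singleton'.2 ⟨w b, mul_comm _ _⟩)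

theorem isRegularLocalRing_of_flat_endo (φ : R →+* R) (hφ : φ.Flat)
    (hc : (maximalIdeal R).map φ ≤ maximalIdeal R ^ 2) : IsRegularLocalRing R := by
  obtain ⟨r, D, hr0, haug, hex, hmin⟩ := exists_residue_resolution R
  obtain ⟨Y, z, hY, hz, hsoc⟩ := exists_regular_socle (R := R)
  obtain ⟨N, hN⟩ : ∃ N, z ∉ Ideal.ofList Y ⊔ maximalIdeal R ^ N := by
    by_contra hall
    push Not at hall
    haveI : Nontrivial (R ⧸ Ideal.ofList Y) := ⟨⟨Ideal.Quotient.mk _ z, 0,
      fun h => hz (Ideal.Quotient.eq_zero_iff_mem.1 h)⟩⟩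
    have hbot := Ideal.iInf_pow_smul_eq_bot_of_le_jacobson (M := R ⧸ Ideal.ofList Y) (maximalIdeal R)
      (IsLocalRing.maximalIdeal_le_jacobson _)
    have hmem : (Ideal.Quotient.mk (Ideal.ofList Y) z) ∈
        (⨅ i, maximalIdeal R ^ i • ⊤ : Submodule R (R ⧸ Ideal.ofList Y)) := by
      refine Submodule.mem_iInf _ |>.2 fun i => ?_
      obtain ⟨a, ha, b, hb, hab⟩ := Submodule.mem_sup.1 (hall i)
      rw [← hab, map_add, Ideal.Quotient.eq_zero_iff_mem.2 ha, zero_add,
        show Ideal.Quotient.mk (Ideal.ofList Y) b = b • (Ideal.Quotient.mk (Ideal.ofList Y) 1) from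
          congrArg (Ideal.Quotient.mk _) (mul_one b).symm]
      exact Submodule.smul_mem_smul hb trivial
    rw [hbot, Submodule.mem_bot, Ideal.Quotient.eq_zero_iff_mem] at hmem
    exact hz hmem
  obtain ⟨ψ, hψ, hψN⟩ : ∃ ψ : R →+* R, ψ.Flat ∧ ∀ a ∈ maximalIdeal R, ψ a ∈ maximalIdeal R ^ (N + 1) := by
    have : ∀ n, ∃ ψ : R →+* R, ψ.Flat ∧ ∀ a ∈ maximalIdeal R, ψ a ∈ maximalIdeal R ^ (n + 1) := by
      intro n
      induction n with
      | zero => exact ⟨RingHom.id R, RingHom.Flat.id R, fun a ha => by simpa using ha⟩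
      | succ n ih =>
        obtain ⟨ψ, h1, h2⟩ := ih
        refine ⟨φ.comp ψ, RingHom.Flat.comp h1 hφ, fun a ha => ?_⟩
        have := Ideal.mem_map_of_mem φ (h2 a ha)
        rw [Ideal.map_pow] at this
        exact Ideal.pow_le_pow_right (by omega) ((Ideal.pow_right_mono hc (n + 1)).trans
          (pow_mul (maximalIdeal R) 2 (n + 1)).ge this)
    exact this N
  have hψex : ∀ i v, (D i).map ψ *ᵥ v = 0 ↔ ∃ y, (D (i + 1)).map ψ *ᵥ y = v := fun i v => by
    refine ⟨exists_preimage_map_of_flat ψ hψ _ _ (fun u hu => (hex i u).1 hu) v, ?_⟩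
    rintro ⟨y, rfl⟩
    have h0 : D i * D (i + 1) = 0 := Matrix.ext_iff_mulVec.2 fun y => by
      rw [← Matrix.mulVec_mulVec, Matrix.zero_mulVec]
      exact (hex i _).2 ⟨y, rfl⟩
    rw [Matrix.mulVec_mulVec, ← Matrix.map_mul, h0, Matrix.map_zero _ (map_zero ψ), Matrix.zero_mulVec]
  have hzero : r (Y.length + 1) = 0 := by
    by_contra hne
    let b : Fin (r (Y.length + 1)) := ⟨0, Nat.pos_of_ne_zero hne⟩
    obtain ⟨w, hw⟩ := exists_preimage_mod r (fun i => (D i).map ψ) hψex Y hY Y.length le_rfl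
      (Pi.single b z) (fun a => by
        show ∑ j, (D Y.length).map ψ a j * Pi.single (M := fun _ => R) b z j ∈ _
        refine Ideal.sum_mem _ fun j _ => ?_
        rcases eq_or_ne j b with rfl | hj
        · rw [Pi.single_eq_same]
          exact hsoc _ (Ideal.pow_le_self (by omega) (hψN _ (hmin _ _ _)))
        · simp [Pi.single_eq_of_ne hj])
    refine hN ?_
    have h1 := hw b
    rw [Pi.sub_apply, Pi.single_eq_same] at h1
    rw [show z = (z - ((D (Y.length + 1)).map ψ *ᵥ w) b) + ((D (Y.length + 1)).map ψ *ᵥ w) b by ring]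
    refine Submodule.add_mem_sup h1 ?_
    show ∑ j, (D (Y.length + 1)).map ψ b j * w j ∈ _
    exact Ideal.sum_mem _ fun j _ => Ideal.mul_mem_right _ _
      (Ideal.pow_le_pow_right (Nat.le_succ N) (hψN _ (hmin _ _ _)))
  have hpd : ∀ n i, i + n = Y.length →
      HasProjectiveDimensionLT (ModuleCat.of R (LinearMap.range (D i).mulVecLin)) (n + 1) := by
    intro n
    induction n with
    | zero =>
      intro i hi
      obtain rfl : i = Y.length := by omega
      haveI : IsEmpty (Fin (r (Y.length + 1))) := by rw [hzero]; infer_instance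
      haveI : Subsingleton (LinearMap.range (D Y.length).mulVecLin) :=
        ⟨fun ⟨_, x, rfl⟩ ⟨_, x', rfl⟩ => Subtype.ext (congrArg (D Y.length).mulVecLin (Subsingleton.elim x x'))⟩
      have : HasProjectiveDimensionLT (ModuleCat.of R (LinearMap.range (D Y.length).mulVecLin)) 0 :=
        (ModuleCat.isZero_of_subsingleton _).hasProjectiveDimensionLT_zero
      exact hasProjectiveDimensionLT_of_ge _ 0 1 (by omega)
    | succ n ih =>
      intro i hi
      have hker : LinearMap.ker (D i).mulVecLin = LinearMap.range (D (i + 1)).mulVecLin := by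
        ext v
        simp [LinearMap.mem_ker, LinearMap.mem_range, hex i v]
      let e := (D i).mulVecLin
      have hS : (ShortComplex.mk (ModuleCat.ofHom (LinearMap.ker e).subtype) (ModuleCat.ofHom e.rangeRestrict)
          (ModuleCat.hom_ext (LinearMap.ext fun x => Subtype.ext x.2))).ShortExact :=
        Groth.Agent.H4Depth.shortComplexOf_shortExact _ _ (LinearMap.ker e).injective_subtype
          e.surjective_rangeRestrict
          (LinearMap.exact_iff.2 (by rw [LinearMap.ker_rangeRestrict, Submodule.range_subtype]))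
      refine hS.hasProjectiveDimensionLT_X₃ (n + 1) ?_ ?_
      · show HasProjectiveDimensionLT (ModuleCat.of R (LinearMap.ker e)) (n + 1)
        rw [show LinearMap.ker e = _ from hker]
        exact ih (i + 1) (by omega)
      · haveI : Projective (ModuleCat.of R (Fin (r (i + 1)) → R)) :=
          ModuleCat.projective_of_free (Pi.basisFun R _)
        have := (projective_iff_hasProjectiveDimensionLT_one (X := ModuleCat.of R (Fin (r (i + 1)) → R))).1 ‹_›
        show HasProjectiveDimensionLT (ModuleCat.of R (Fin (r (i + 1)) → R)) (n + 1 + 1)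
        exact hasProjectiveDimensionLT_of_ge _ 1 (n + 1 + 1) (by omega)
  refine H05EGA4.isRegularLocalRing_of_residueField R (Y.length + 1) ?_
  let i0 : Fin (r 0) := Fin.cast hr0.symm 0
  have hall : ∀ j : Fin (r 0), j = i0 := fun j => Fin.ext (by have := j.2; have := i0.2; omega)
  let g : (Fin (r 0) → R) →ₗ[R] ResidueField R := (Algebra.linearMap R (ResidueField R)) ∘ₗ LinearMap.proj i0
  have hg : Function.Surjective g := fun x => by
    obtain ⟨a, rfl⟩ := IsLocalRing.residue_surjective x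
    exact ⟨fun _ => a, rfl⟩
  have hkg : Function.Exact (LinearMap.range (D 0).mulVecLin).subtype g := fun v => by
    simp only [g, LinearMap.comp_apply, LinearMap.proj_apply, Algebra.linearMap_apply]
    rw [show algebraMap R (ResidueField R) (v i0) = IsLocalRing.residue R (v i0) from rfl,
      IsLocalRing.residue_eq_zero_iff]
    refine ⟨fun hv => ⟨⟨v, (haug v).1 fun a => (hall a).symm ▸ hv⟩, rfl⟩, ?_⟩
    rintro ⟨⟨u, hu⟩, rfl⟩
    exact (haug u).2 hu i0
  have hS := Groth.Agent.H4Depth.shortComplexOf_shortExact (LinearMap.range (D 0).mulVecLin).subtype g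
    (LinearMap.range (D 0).mulVecLin).injective_subtype hg hkg
  refine hS.hasProjectiveDimensionLT_X₃ (Y.length + 1) (hpd Y.length 0 (by simp)) ?_
  haveI : Projective (ModuleCat.of R (Fin (r 0) → R)) := ModuleCat.projective_of_free (Pi.basisFun R _)
  have := (projective_iff_hasProjectiveDimensionLT_one (X := ModuleCat.of R (Fin (r 0) → R))).1 ‹_›
  show HasProjectiveDimensionLT (ModuleCat.of R (Fin (r 0) → R)) (Y.length + 1 + 1)
  exact hasProjectiveDimensionLT_of_ge _ 1 (Y.length + 1 + 1) (by omega)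

end Groth.Agent.H4Frob
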