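import Groth.Agent.H8Props.MiracleFlat
import Groth.Agent.H4Depth.Regular

/-!
# The Frobenius of a regular local ring is flat
-/

set_option autoImplicit false
set_option linter.style.haveILetI false
universe u

open IsLocalRing

namespace Groth.Agent.H4Frob

/-- A synonym for `R`, to be the target of an endomorphism. -/
def Tgt (R : Type u) : Type u := R

noncomputable instance (R : Type u) [CommRing R] : CommRing (Tgt R) := inferInstanceAs (CommRing R)

/-- `R ≅ Tgt R`. -/
noncomputable def toTgt (R : Type u) [CommRing R] : R ≃+* Tgt R := RingEquiv.refl R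

theorem flat_endo_of_regularLocal {R : Type u} [CommRing R] [IsRegularLocalRing R] (φ : R →+* R)
    [IsLocalHom φ] (hrad : maximalIdeal R ≤ ((maximalIdeal R).map φ).radical) : φ.Flat := by
  haveI : IsRegularLocalRing (Tgt R) := IsRegularLocalRing.of_ringEquiv (toTgt R)
  haveI := H4Depth.isCohenMacaulayLocalRing_of_regular (Tgt R)
  letI : Algebra R (Tgt R) := ((toTgt R).toRingHom.comp φ).toAlgebra
  haveI : IsLocalHom (algebraMap R (Tgt R)) := ⟨fun a ha => isUnit_of_map_unit φ a ha⟩
  have h0 : ringKrullDim (Tgt R ⧸ (maximalIdeal R).map (algebraMap R (Tgt R))) ≤ 0 := by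
    refine Ring.krullDimLE_iff.1 (Ring.krullDimLE_zero_iff.2 fun I hI => ?_)
    have hP : (I.comap (Ideal.Quotient.mk _)).IsPrime := inferInstance
    have hle : maximalIdeal (Tgt R) ≤ I.comap (Ideal.Quotient.mk _) := fun r hr => by
      obtain ⟨n, hn⟩ := hrad hr
      exact hP.mem_of_pow_mem n (Ideal.mem_comap.2
        ((Ideal.Quotient.eq_zero_iff_mem.2 hn).symm ▸ I.zero_mem))
    have hmax : (I.comap (Ideal.Quotient.mk _)).IsMaximal :=
      (le_antisymm hle (IsLocalRing.le_maximalIdeal hP.ne_top)) ▸ maximalIdeal.isMaximal _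
    rw [← Ideal.map_comap_of_surjective _ Ideal.Quotient.mk_surjective I]
    exact (Ideal.map_eq_top_or_isMaximal_of_surjective _ Ideal.Quotient.mk_surjective hmax).resolve_left
      (fun h => hI.ne_top (by rwa [Ideal.map_comap_of_surjective _ Ideal.Quotient.mk_surjective] at h))
  have hflat : Module.Flat R (Tgt R) := H8Props.MiracleFlat.flat_of_regular_of_cohenMacaulay R (Tgt R) (by
    calc ringKrullDim R + ringKrullDim (Tgt R ⧸ _) ≤ ringKrullDim R + 0 := by gcongr
      _ = ringKrullDim (Tgt R) := by rw [add_zero, ringKrullDim_eq_of_ringEquiv (toTgt R)])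
  exact hflat

theorem frobenius_flat_of_regularLocal (p : ℕ) [Fact p.Prime] (R : Type u) [CommRing R] [IsRegularLocalRing R]
    [CharP R p] : (frobenius R p).Flat := by
  haveI : IsLocalHom (frobenius R p) := ⟨fun a ha => (isUnit_pow_iff (Fact.out : p.Prime).ne_zero).1 ha⟩
  exact flat_endo_of_regularLocal _ fun r hr => ⟨p, Ideal.mem_map_of_mem _ hr⟩

end Groth.Agent.H4Frob
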