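import Groth.Agent.H4LC.IntersectionApps

/-!
# An infinite minimal free resolution of the residue field, by matrices
-/

set_option autoImplicit false
set_option linter.style.haveILetI false
universe u

open IsLocalRing Matrix

namespace Groth.Agent.H4Frob

variable (A : Type u) [CommRing A] [IsLocalRing A] [IsNoetherianRing A]

theorem exists_matrix_onto {b : ℕ} (N : Submodule A (Fin b → A)) (hN : ∀ v ∈ N, ∀ a, v a ∈ maximalIdeal A) :
    ∃ (c : ℕ) (E : Matrix (Fin b) (Fin c) A), (∀ v, v ∈ N ↔ ∃ y, E *ᵥ y = v) ∧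
      (∀ a j, E a j ∈ maximalIdeal A) ∧ ∀ y, E *ᵥ y = 0 → ∀ j, y j ∈ maximalIdeal A := by
  haveI : Module.Finite A N := Module.Finite.of_fg (IsNoetherian.noetherian N)
  obtain ⟨c, π, hπ, hker⟩ := H4LC.exists_minimal_surj (A := A) N
  let E := LinearMap.toMatrix' (N.subtype ∘ₗ π)
  have hE : ∀ y, E *ᵥ y = (π y : Fin b → A) := fun y => LinearMap.toMatrix'_mulVec _ y
  refine ⟨c, E, fun v => ⟨fun hv => ?_, ?_⟩, fun a j => ?_, fun y hy j => ?_⟩
  · obtain ⟨y, hy⟩ := hπ ⟨v, hv⟩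
    exact ⟨y, by rw [hE, hy]⟩
  · rintro ⟨y, rfl⟩
    rw [hE]
    exact (π y).2
  · have := hE (Pi.single j 1)
    rw [Matrix.mulVec_single_one] at this
    rw [show E a j = (π (Pi.single j 1) : Fin b → A) a from congrFun this a]
    exact hN _ (π _).2 a
  · refine H4LC.apply_mem_of_mem_smul_top (hker (LinearMap.mem_ker.2 (Subtype.ext ?_))) j
    exact (hE y).symm.trans hy

/-- One step of the resolution. -/
structure Step where
  /-- target rank -/
  b : ℕ
  /-- source rank -/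
  c : ℕ
  /-- the matrix -/
  D : Matrix (Fin b) (Fin c) A
  min : ∀ y, D *ᵥ y = 0 → ∀ j, y j ∈ maximalIdeal A

theorem exists_next (s : Step A) : ∃ (c : ℕ) (E : Matrix (Fin s.c) (Fin c) A),
    (∀ v, s.D *ᵥ v = 0 ↔ ∃ y, E *ᵥ y = v) ∧ (∀ a j, E a j ∈ maximalIdeal A) ∧
      ∀ y, E *ᵥ y = 0 → ∀ j, y j ∈ maximalIdeal A := by
  obtain ⟨c, E, h1, h2, h3⟩ := exists_matrix_onto A (LinearMap.ker s.D.mulVecLin)
    (fun v hv => s.min v (by simpa using hv))
  exact ⟨c, E, fun v => ⟨fun hv => (h1 v).1 (by simpa using hv), fun h => by simpa using (h1 v).2 h⟩, h2, h3⟩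

theorem exists_residue_resolution :
    ∃ (r : ℕ → ℕ) (D : ∀ i, Matrix (Fin (r i)) (Fin (r (i + 1))) A), r 0 = 1 ∧
      (∀ v, (∀ a, v a ∈ maximalIdeal A) ↔ ∃ y, D 0 *ᵥ y = v) ∧
      (∀ i v, D i *ᵥ v = 0 ↔ ∃ y, D (i + 1) *ᵥ y = v) ∧
      ∀ i a b, D i a b ∈ maximalIdeal A := by
  obtain ⟨c₀, E₀, g1, g2, g3⟩ := exists_matrix_onto A
    (Submodule.pi Set.univ (fun _ : Fin 1 => (maximalIdeal A).restrictScalars A))
    (fun v hv a => hv a trivial)
  choose nc nE nh1 nh2 nh3 using exists_next A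
  let next : Step A → Step A := fun s => ⟨s.c, nc s, nE s, nh3 s⟩
  let S : ℕ → Step A := fun n => Nat.rec ⟨1, c₀, E₀, g3⟩ (fun _ s => next s) n
  refine ⟨fun n => (S n).b, fun n => (S n).D, rfl,
    fun v => ⟨fun hv => (g1 v).1 fun a _ => hv a, fun h a => (g1 v).2 h a trivial⟩,
    fun i v => nh1 (S i) v, fun i a b => ?_⟩
  cases i with
  | zero => exact g2 a b
  | succ n => exact nh2 (S n) a b

end Groth.Agent.H4Frob
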